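import Mathlib
import Cfsg.Prelude.Def_PLocal

/-!
API for the abelian-version Thompson subgroup `Cfsg.thompsonSubgroupAOf`
(generated by the abelian subgroups of largest order).
-/

set_option autoImplicit false

namespace Cfsg.Agent.Lib.ThompsonA

open Subgroup

universe u v

variable {G : Type u} [Group G] {G' : Type v} [Group G']

/-- The abelian subgroups of largest order inside `U`. -/
def maxAbIn (U : Subgroup G) : Set (Subgroup G) :=
  {A | IsMulCommutative A ∧ A ≤ U ∧
    ∀ B : Subgroup G, IsMulCommutative B → B ≤ U → Nat.card B ≤ Nat.card A}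

theorem map_mem_maxAbIn {f : G →* G'} (hf : Function.Injective f) {U A : Subgroup G}
    (hA : A ∈ maxAbIn U) : A.map f ∈ maxAbIn (U.map f) := by
  haveI := hA.1
  refine ⟨inferInstance, map_mono hA.2.1, fun B hB hBU => ?_⟩
  haveI := hB
  have hB' : IsMulCommutative (B.comap f) :=
    ⟨⟨fun x y => Subtype.ext (hf (by
      push_cast
      rw [map_mul, map_mul]
      exact congrArg Subtype.val (mul_comm' (⟨f x, x.2⟩ : B) ⟨f y, y.2⟩)))⟩⟩
  have hle : B.comap f ≤ U := by
    intro x hx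
    obtain ⟨y, hy, hxy⟩ := hBU hx
    exact hf hxy ▸ hy
  have heq : (B.comap f).map f = B :=
    map_comap_eq_self (hBU.trans (map_le_range _ _))
  have := hA.2.2 _ hB' hle
  rw [card_map_of_injective hf]
  calc Nat.card B = Nat.card ((B.comap f).map f) := by rw [heq]
    _ = Nat.card (B.comap f) := card_map_of_injective hf
    _ ≤ Nat.card A := this

theorem maxAbIn_map {f : G →* G'} (hf : Function.Injective f) {U : Subgroup G} {A : Subgroup G'}
    (hA : A ∈ maxAbIn (U.map f)) : ∃ B ∈ maxAbIn U, B.map f = A := by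
  have heq : (A.comap f).map f = A := map_comap_eq_self (hA.2.1.trans (map_le_range _ _))
  haveI := hA.1
  refine ⟨A.comap f, ⟨⟨⟨fun x y => Subtype.ext (hf (by
      push_cast
      rw [map_mul, map_mul]
      exact congrArg Subtype.val (mul_comm' (⟨f x, x.2⟩ : A) ⟨f y, y.2⟩)))⟩⟩, ?_, ?_⟩, heq⟩
  · intro x hx
    obtain ⟨y, hy, hxy⟩ := hA.2.1 hx
    exact hf hxy ▸ hy
  · intro B hB hBU
    haveI := hB
    have := hA.2.2 _ (inferInstance : IsMulCommutative (B.map f)) (map_mono hBU)
    rw [card_map_of_injective hf] at this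
    calc Nat.card B ≤ Nat.card A := this
      _ = Nat.card ((A.comap f).map f) := by rw [heq]
      _ = Nat.card (A.comap f) := card_map_of_injective hf

theorem maxAbIn_top : maxAbIn (⊤ : Subgroup G) = Cfsg.maxAbelianSubgroups G :=
  Set.ext fun _ => ⟨fun h => ⟨h.1, fun B hB => h.2.2 B hB le_top⟩,
    fun h => ⟨h.1, le_top, fun B hB _ => h.2 B hB⟩⟩

theorem thompsonSubgroupAOf_eq_sSup (U : Subgroup G) :
    Cfsg.thompsonSubgroupAOf U = sSup (maxAbIn U) := by
  rw [Cfsg.thompsonSubgroupAOf, Cfsg.thompsonSubgroupA, ← maxAbIn_top,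
    (Subgroup.gc_map_comap U.subtype).l_sSup]
  have h : U = (⊤ : Subgroup U).map U.subtype := by rw [← MonoidHom.range_eq_map, range_subtype]
  refine le_antisymm (iSup₂_le fun A hA => ?_) (sSup_le fun A hA => ?_)
  · refine le_sSup ?_
    have := map_mem_maxAbIn (subtype_injective U) hA
    rwa [← h] at this
  · rw [h] at hA
    obtain ⟨B, hB, rfl⟩ := maxAbIn_map (subtype_injective U) hA
    exact le_iSup₂_of_le B hB le_rfl

theorem le_thompsonSubgroupAOf {U A : Subgroup G} (hA : A ∈ maxAbIn U) :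
    A ≤ Cfsg.thompsonSubgroupAOf U := by
  rw [thompsonSubgroupAOf_eq_sSup]
  exact le_sSup hA

theorem thompsonSubgroupAOf_le (U : Subgroup G) : Cfsg.thompsonSubgroupAOf U ≤ U :=
  map_subtype_le _

theorem exists_mem_maxAbIn [Finite G] (U : Subgroup G) : ∃ A, A ∈ maxAbIn U := by
  obtain ⟨A, ⟨h1, h2⟩, hmax⟩ := Set.exists_max_image {A : Subgroup G | IsMulCommutative A ∧ A ≤ U}
    (fun A => Nat.card A) (Set.toFinite _) ⟨⊥, inferInstance, bot_le⟩
  exact ⟨A, h1, h2, fun B hB hBU => hmax B ⟨hB, hBU⟩⟩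

theorem thompsonSubgroupAOf_map {f : G →* G'} (hf : Function.Injective f) (U : Subgroup G) :
    Cfsg.thompsonSubgroupAOf (U.map f) = (Cfsg.thompsonSubgroupAOf U).map f := by
  rw [thompsonSubgroupAOf_eq_sSup, thompsonSubgroupAOf_eq_sSup, (Subgroup.gc_map_comap f).l_sSup]
  refine le_antisymm (sSup_le fun A hA => ?_) (iSup₂_le fun A hA => ?_)
  · obtain ⟨B, hB, rfl⟩ := maxAbIn_map hf hA
    exact le_iSup₂_of_le B hB le_rfl
  · exact le_sSup (map_mem_maxAbIn hf hA)

theorem thompsonSubgroupAOf_map_of_disjoint {H : Type v} [Group H] (f : G →* H)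
    (U : Subgroup G) (h : f.ker ⊓ U = ⊥) :
    Cfsg.thompsonSubgroupAOf (U.map f) = (Cfsg.thompsonSubgroupAOf U).map f := by
  have hinj : Function.Injective (f.comp U.subtype) := by
    rw [← MonoidHom.ker_eq_bot_iff, _root_.eq_bot_iff]
    intro x hx
    have : (x : G) ∈ f.ker ⊓ U := ⟨hx, x.2⟩
    rw [h, mem_bot] at this
    exact mem_bot.2 (Subtype.ext this)
  have h1 := thompsonSubgroupAOf_map hinj ⊤
  have h2 := thompsonSubgroupAOf_map U.subtype_injective ⊤
  rw [← MonoidHom.range_eq_map, range_subtype] at h2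
  rw [← Subgroup.map_map, ← MonoidHom.range_eq_map, range_subtype] at h1
  rw [h1, h2, Subgroup.map_map]

theorem normalizer_le (U : Subgroup G) :
    normalizer (U : Set G) ≤ normalizer (Cfsg.thompsonSubgroupAOf U : Set G) := by
  intro g hg
  have key : ∀ u ∈ normalizer (U : Set G),
      (Cfsg.thompsonSubgroupAOf U).map (MulAut.conj u).toMonoidHom = Cfsg.thompsonSubgroupAOf U := by
    intro u hu
    rw [← thompsonSubgroupAOf_map (MulAut.conj u).injective]
    congr 1
    ext x
    rw [mem_map_equiv, MulAut.conj_symm_apply]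
    constructor
    · intro hx
      have := (mem_normalizer_iff.1 hu _).1 hx
      simpa [mul_assoc] using this
    · intro hx
      have := (mem_normalizer_iff.1 (inv_mem hu) x).1 hx
      simpa using this
  rw [mem_normalizer_iff]
  intro x
  constructor
  · intro hx
    exact key g hg ▸ mem_map_of_mem (MulAut.conj g).toMonoidHom hx
  · intro hx
    have := key g⁻¹ (inv_mem hg) ▸ mem_map_of_mem (MulAut.conj g⁻¹).toMonoidHom hx
    simpa [mul_assoc] using this

theorem thompsonSubgroupAOf_eq_of_le [Finite G] {U H : Subgroup G}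
    (h1 : Cfsg.thompsonSubgroupAOf U ≤ H) (h2 : H ≤ U) :
    Cfsg.thompsonSubgroupAOf H = Cfsg.thompsonSubgroupAOf U := by
  obtain ⟨A₀, hA₀⟩ := exists_mem_maxAbIn U
  have hA₀H : A₀ ≤ H := (le_thompsonSubgroupAOf hA₀).trans h1
  have : maxAbIn H = maxAbIn U := by
    ext A
    constructor
    · rintro ⟨hA, hAH, hmax⟩
      exact ⟨hA, hAH.trans h2,
        fun B hB hBU => (hA₀.2.2 B hB hBU).trans (hmax A₀ hA₀.1 hA₀H)⟩
    · intro hA
      exact ⟨hA.1, (le_thompsonSubgroupAOf hA).trans h1, fun B hB hBH => hA.2.2 B hB (hBH.trans h2)⟩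
  rw [thompsonSubgroupAOf_eq_sSup, thompsonSubgroupAOf_eq_sSup, this]

theorem thompsonSubgroupAOf_ne_bot [Finite G] {U : Subgroup G} (hU : U ≠ ⊥) :
    Cfsg.thompsonSubgroupAOf U ≠ ⊥ := by
  intro h
  obtain ⟨A, hA⟩ := exists_mem_maxAbIn U
  obtain ⟨x, hx, hx1⟩ := U.bot_or_exists_ne_one.resolve_left hU
  have hAbot : A = ⊥ := le_bot_iff.1 (h ▸ le_thompsonSubgroupAOf hA)
  have hle := hA.2.2 (zpowers x) inferInstance (zpowers_le.2 hx)
  rw [hAbot, card_bot] at hle
  exact hx1 (zpowers_eq_bot.1 ((card_le_one_iff_eq_bot _).1 hle))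

end Cfsg.Agent.Lib.ThompsonA
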