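import Mathlib
import Cfsg.Agent.Lib.ThompsonNPC.Offender
/-!
An offender inequality for every prime, up to small pairs, and small pairs in characteristic 2.
-/

namespace Cfsg.Agent.Lib.ThompsonA

open Subgroup Cfsg.Agent.Lib.ThompsonNPC

variable {W : Type*} [CommGroup W] {p : ℕ} [Finite W]

/-- **The offender inequality**, for every prime: unless some element moves an invariant subgroup by
less than `p ^ 2` elements without commuting there with the `p'`-group. -/
theorem card_fix_mul_card_sq_le [Fact p.Prime] (hW : ∀ w : W, w ^ p = 1)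
    (H : Subgroup (MulAut W)) [IsMulCommutative H] (hcop : (Nat.card H).Coprime p)
    (A : Subgroup (MulAut W)) (hA : Cfsg.IsElementaryAbelian p A)
    (hAH : A ≤ normalizer (H : Set (MulAut W)))
    (hfaith : A ⊓ centralizer (H : Set (MulAut W)) = ⊥)
    (hnopair : ∀ (U : Subgroup W) (R : Subgroup W), ∀ α ∈ A, ∀ η ∈ H, (∀ w ∈ U, α w ∈ U) →
      (∀ w ∈ U, η w ∈ U) → (∀ w ∈ U, α w / w ∈ R) → R ≤ U → Nat.card R < p ^ 2 →
      ∀ w ∈ U, α (η w) = η (α w)) :
    Nat.card (fix A) * Nat.card A ^ 2 ≤ Nat.card W := by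
  induction hn : Nat.card A using Nat.strong_induction_on generalizing A with
  | _ n ih =>
  subst hn
  rcases eq_or_ne A ⊥ with rfl | hA0
  · rw [fix_bot, card_top, card_bot, one_pow, mul_one]
  have hne : ¬ H ≤ centralizer (A : Set (MulAut W)) := fun h =>
    hA0 (le_bot_iff.1 (hfaith ▸ le_inf le_rfl (le_centralizer_iff.1 h)))
  obtain ⟨B, hBA, hAB, hBne⟩ := exists_hyperplane hA hAH hcop hne
  have hBcard : 0 < Nat.card B := Nat.card_pos
  have hBA' : Cfsg.IsElementaryAbelian p B := by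
    haveI := hA.1
    refine ⟨⟨⟨fun x y => Subtype.ext ?_⟩⟩, fun b hb => hA.2 b (hBA hb)⟩
    have := congrArg Subtype.val (mul_comm' (⟨x, hBA x.2⟩ : A) ⟨y, hBA y.2⟩)
    exact this
  have hIH := ih (Nat.card B)
    (by rw [hAB]; have := (Fact.out : p.Prime).two_le; nlinarith) B hBA' (hBA.trans hAH)
    (le_bot_iff.1 ((inf_le_inf_right _ hBA).trans hfaith.le))
    (fun U R a ha => hnopair U R a (hBA ha)) rfl
  -- an element outside `B`
  obtain ⟨α, hαA, hαB⟩ : ∃ α ∈ A, α ∉ B := by
    by_contra h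
    push_neg at h
    have := card_le_of_le h
    rw [hAB] at this
    have := (Fact.out : p.Prime).two_le
    nlinarith
  haveI := hA.1
  have hcommA : ∀ x ∈ A, ∀ y ∈ A, Commute x y := fun x hx y hy =>
    congrArg Subtype.val (mul_comm' (⟨x, hx⟩ : A) ⟨y, hy⟩)
  have hgen : A ≤ B ⊔ zpowers α := by
    intro x hx
    by_contra hx'
    have hp := (Fact.out : p.Prime)
    have hlt : B < B ⊔ zpowers α := lt_of_le_of_ne le_sup_left fun h =>
      hαB (h ▸ mem_sup_right (mem_zpowers α))
    have hle : B ⊔ zpowers α ≤ A := sup_le hBA (zpowers_le.2 hαA)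
    obtain ⟨c, hc⟩ := card_dvd_of_le (le_sup_left : B ≤ B ⊔ zpowers α)
    have h2 : Nat.card B * c ∣ p * Nat.card B := hc ▸ hAB ▸ card_dvd_of_le hle
    rw [Nat.mul_comm p] at h2
    rcases (Nat.dvd_prime hp).1 (Nat.dvd_of_mul_dvd_mul_left hBcard h2) with rfl | rfl
    · exact hlt.ne (eq_of_le_of_card_ge hlt.le (by rw [hc, mul_one]))
    · exact hx' ((eq_of_le_of_card_ge hle (by rw [hc, hAB, Nat.mul_comm])).symm ▸ hx)
  set W1 := fix B with hW1
  have hfixle : fix A ≤ W1 := fun w hw β hβ => hw β (hBA hβ)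
  have hinv : ∀ γ : MulAut W, (∀ β ∈ B, Commute β γ) → ∀ w ∈ W1, γ w ∈ W1 := by
    intro γ hγ w hw β hβ
    rw [← MulAut.mul_apply, (hγ β hβ).eq, MulAut.mul_apply, hw β hβ]
  have hαinv := hinv α fun β hβ => hcommA β (hBA hβ) α hαA
  -- `α` moves `W1` modulo more than a line
  set ψ : W1 →* W :=
    { toFun := fun w => α w / w
      map_one' := by simp
      map_mul' := fun u v => by
        simp only [Subgroup.coe_mul, map_mul]
        exact mul_div_mul_comm _ _ _ _ } with hψ
  have hψker : ψ.ker.map W1.subtype ≤ fix A := by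
    rintro _ ⟨w, hw, rfl⟩
    have hw' : α (w : W) = w := div_eq_one.1 hw
    intro γ hγ
    have : B ⊔ zpowers α ≤ MulAction.stabilizer (MulAut W) ((w : W1) : W) :=
      sup_le (fun β hβ => w.2 β hβ) (zpowers_le.2 hw')
    exact this (hgen hγ)
  have hrange : ψ.range ≤ W1 := by
    rintro _ ⟨w, rfl⟩
    exact div_mem (hαinv w w.2) w.2
  have hbig : p ^ 2 ≤ Nat.card ψ.range := by
    by_contra hsmall
    push_neg at hsmall
    -- so it centralises `C_H(B)`
    apply hBne
    intro η hη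
    rw [mem_centralizer_iff]
    intro γ hγ
    suffices h : Commute α η by
      have hle : B ⊔ zpowers α ≤ centralizer ({η} : Set (MulAut W)) := by
        refine sup_le (fun β hβ => ?_) (zpowers_le.2 ?_)
        · rintro x (rfl : x = η)
          exact (mem_centralizer_iff.1 hη.2 β hβ).symm
        · rintro x (rfl : x = η)
          exact h.symm.eq
      exact (mem_centralizer_iff.1 (hle (hgen hγ)) η rfl).symm
    have hcommB : ∀ β ∈ B, Commute β η := fun β hβ => mem_centralizer_iff.1 hη.2 β hβ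
    set η' := α * η * α⁻¹ with hη'
    have hη'H : η' ∈ H := (mem_normalizer_iff.1 (hAH hαA) η).1 hη.1
    have hη''H : α⁻¹ * η * α ∈ H := by
      have := (mem_normalizer_iff.1 (hAH (inv_mem hαA)) η).1 hη.1
      rwa [inv_inv] at this
    have hcH : ∀ x ∈ H, Commute x η := fun x hx =>
      congrArg Subtype.val (mul_comm' (⟨x, hx⟩ : H) ⟨η, hη.1⟩)
    have hηinv := hinv η hcommB
    have hainv' := hinv α⁻¹ fun β hβ => (hcommA β (hBA hβ) α hαA).inv_right
    have hord : (orderOf η).Coprime p :=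
      hcop.coprime_dvd_left (by rw [← orderOf_mk η hη.1]; exact _root_.orderOf_dvd_natCard _)
    -- restrict to `W1`
    set a1 := restrict α W1 hαinv
    set h1 := restrict η W1 hηinv
    have hainv : a1⁻¹ = restrict α⁻¹ W1 hainv' := by
      refine inv_eq_of_mul_eq_one_right (MulEquiv.ext fun w => Subtype.ext ?_)
      simp only [a1, MulAut.mul_apply, restrict_apply]
      exact (MulAut.mul_apply _ α α⁻¹ _).symm.trans (by rw [mul_inv_cancel]; rfl)
    have key : Commute a1 h1 := by
      refine MulEquiv.ext fun w => Subtype.ext ?_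
      simp only [a1, h1, MulAut.mul_apply, restrict_apply]
      exact hnopair W1 ψ.range α hαA η hη.1 hαinv hηinv (fun v hv => ⟨⟨v, hv⟩, rfl⟩) hrange hsmall
        w w.2
    -- hence `⁅α, η⁆` fixes `W1`, so is trivial
    have hfix1 : ∀ w ∈ W1, (η' * η⁻¹) w = w := by
      intro w hw
      have hw' : η⁻¹ w ∈ W1 := hinv η⁻¹ (fun β hβ => (hcommB β hβ).inv_right) w hw
      have h' : α⁻¹ (η⁻¹ w) ∈ W1 := hainv' _ hw'
      have := congrArg Subtype.val (DFunLike.congr_fun key.eq ⟨_, h'⟩)
      simp only [a1, h1, MulAut.mul_apply, restrict_apply] at this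
      rw [hη', MulAut.mul_apply, MulAut.mul_apply, MulAut.mul_apply, this]
      rw [← MulAut.mul_apply _ α, mul_inv_cancel, MulAut.one_apply, ← MulAut.mul_apply _ η,
        mul_inv_cancel, MulAut.one_apply]
    have hone : η' * η⁻¹ = 1 := by
      have hmem : η' * η⁻¹ ∈ H := mul_mem hη'H (inv_mem hη.1)
      refine eq_one_of_fix_le hW (B := B) (fun g => ⟨1, by
        rw [pow_one]; exact Subtype.ext (hA.2 g (hBA g.2))⟩) (fun β hβ => ?_)
        (hcop.coprime_dvd_left
          (by rw [← orderOf_mk _ hmem]; exact _root_.orderOf_dvd_natCard _)) hfix1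
      have hβα := hcommA β (hBA hβ) α hαA
      exact ((hβα.mul_right (hcommB β hβ)).mul_right hβα.inv_right).mul_right
        (hcommB β hβ).inv_right
    exact (mul_inv_eq_iff_eq_mul.1 (mul_inv_eq_one.1 hone) : α * η = η * α)
  have hcardW1 : p ^ 2 * Nat.card (fix A) ≤ Nat.card W1 := by
    rw [← ψ.ker.card_mul_index, index_ker]
    have heq : ψ.ker.map W1.subtype = fix A := by
      refine le_antisymm hψker fun w hw => ⟨⟨w, hfixle hw⟩, ?_, rfl⟩
      exact div_eq_one.2 (hw α hαA)
    rw [← heq, Nat.card_congr (ψ.ker.equivMapOfInjective W1.subtype W1.subtype_injective).symm.toEquiv,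
      Nat.mul_comm]
    exact Nat.mul_le_mul_left _ hbig
  calc Nat.card (fix A) * Nat.card A ^ 2
      = (p ^ 2 * Nat.card (fix A)) * Nat.card B ^ 2 := by rw [hAB]; ring
    _ ≤ Nat.card W1 * Nat.card B ^ 2 := Nat.mul_le_mul_right _ hcardW1
    _ ≤ Nat.card W := hIH


/-- In characteristic 2 a small pair gives an inverted element of order 3. -/
theorem pair_two {H : Subgroup (MulAut W)} [IsMulCommutative H] (hcop : (Nat.card H).Coprime 2)
    (hW : ∀ w : W, w ^ 2 = 1) {α η : MulAut W} (hα : α ^ 2 = 1) (hη : η ∈ H)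
    (hαη : α * η * α⁻¹ ∈ H) {U R : Subgroup W} (hαU : ∀ w ∈ U, α w ∈ U) (hηU : ∀ w ∈ U, η w ∈ U)
    (hR : ∀ w ∈ U, α w / w ∈ R) (hRU : R ≤ U) (hRc : Nat.card R < 2 ^ 2)
    (hne : ∃ w ∈ U, α (η w) ≠ η (α w)) :
    ∃ y : MulAut W, y = η * α * η⁻¹ * α⁻¹ ∧ α * y * α⁻¹ = y⁻¹ ∧ (∀ w ∈ U, y w ∈ U) ∧
      (∀ w ∈ U, (y ^ 3) w = w) ∧ ∃ w ∈ U, y w ≠ w := by
  refine ⟨η * α * η⁻¹ * α⁻¹, rfl, ?_⟩
  have hαinv : α⁻¹ = α := inv_eq_of_mul_eq_one_right (by rw [← pow_two, hα])
  set y := η * α * η⁻¹ * α⁻¹ with hy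
  have hηiU : ∀ w ∈ U, η⁻¹ w ∈ U := by
    intro w hw
    have : ∀ n : ℕ, ∀ v ∈ U, (η ^ n) v ∈ U := by
      intro n
      induction n with
      | zero => intro v hv; simpa using hv
      | succ n ih => intro v hv; rw [pow_succ', MulAut.mul_apply]; exact hηU _ (ih v hv)
    obtain ⟨k, hk⟩ : ∃ k : ℕ, η ^ k = η⁻¹ := by
      refine ⟨orderOf η - 1, eq_inv_of_mul_eq_one_left ?_⟩
      rw [← pow_succ, Nat.sub_add_cancel, pow_orderOf_eq_one]
      haveI : Finite (MulAut W) := Finite.of_injective (fun e : MulAut W => (e : W → W))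
        DFunLike.coe_injective
      exact orderOf_pos η
    exact hk ▸ this k w hw
  have hyU : ∀ w ∈ U, y w ∈ U := fun w hw => by
    rw [hy, hαinv]
    simp only [MulAut.mul_apply]
    exact hηU _ (hαU _ (hηiU _ (hαU _ hw)))
  refine ⟨?_, hyU, ?_⟩
  · -- `α` inverts `η α η⁻¹ α⁻¹ = η (α η α⁻¹)⁻¹`
    rw [hy]
    calc α * (η * α * η⁻¹ * α⁻¹) * α⁻¹ = α * η * α * η⁻¹ * (α * α)⁻¹ := by group
      _ = α * η * α * η⁻¹ := by rw [← pow_two, hα, inv_one, mul_one]
      _ = α * η * α⁻¹ * η⁻¹ := by rw [hαinv]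
      _ = (η * α * η⁻¹ * α⁻¹)⁻¹ := by group
  have hodd : (orderOf y).Coprime 2 := by
    have hyH : y ∈ H := by
      have : y = η * (α * η * α⁻¹)⁻¹ := by rw [hy]; group
      rw [this]
      exact mul_mem hη (inv_mem hαη)
    exact hcop.coprime_dvd_left (Subgroup.orderOf_dvd_natCard _ hyH)
  -- the range of `y - 1` on `U`
  set R' : Subgroup W := R ⊔ R.map η.toMonoidHom with hR'
  have hyR : ∀ w ∈ U, y w / w ∈ R' := by
    intro w hw
    have h1 := mem_sup_left (T := R.map η.toMonoidHom) (hR w hw)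
    have h2 : η (α (η⁻¹ (α w)) / η⁻¹ (α w)) ∈ R' :=
      mem_sup_right ⟨_, hR _ (hηiU _ (hαU _ hw)), rfl⟩
    have e : y w / w = η (α (η⁻¹ (α w)) / η⁻¹ (α w)) * (α w / w) := by
      rw [map_div, hy, hαinv]
      simp only [MulAut.mul_apply]
      rw [show η (η⁻¹ (α w)) = α w from η.apply_symm_apply _, div_mul_div_cancel]
    rw [e]
    exact mul_mem h2 h1
  have hR'U : R' ≤ U := sup_le hRU (by rintro _ ⟨r, hr, rfl⟩; exact hηU _ (hRU hr))
  have hR'c : Nat.card R' ≤ 4 := by
    have h2 : Nat.card R ≤ 2 := by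
      obtain ⟨k, hk⟩ := ((show IsPGroup 2 W from fun w => ⟨1, by rw [pow_one]; exact hW w⟩).to_subgroup
        R).exists_card_eq
      rw [hk] at hRc ⊢
      have : k < 2 := (Nat.pow_lt_pow_iff_right (by norm_num)).1 hRc
      calc 2 ^ k ≤ 2 ^ 1 := Nat.pow_le_pow_right (by norm_num) (by omega)
        _ = 2 := pow_one 2
    have h3 : Nat.card (R.map η.toMonoidHom) ≤ 2 := by
      rw [card_map_of_injective η.injective]; exact h2
    have h4 : Nat.card R' ≤ Nat.card R * Nat.card (R.map η.toMonoidHom) := by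
      rw [← Nat.card_prod]
      refine Nat.card_le_card_of_surjective
        (fun x : R × R.map η.toMonoidHom => (⟨x.1.1 * x.2.1,
          mul_mem (mem_sup_left x.1.2) (mem_sup_right x.2.2)⟩ : R')) ?_
      rintro ⟨z, hz⟩
      obtain ⟨a, ha, b, hb, rfl⟩ := mem_sup.1 hz
      exact ⟨⟨⟨a, ha⟩, ⟨b, hb⟩⟩, rfl⟩
    calc Nat.card R' ≤ Nat.card R * Nat.card (R.map η.toMonoidHom) := h4
      _ ≤ 2 * 2 := Nat.mul_le_mul h2 h3
  have hyinj : ∀ w ∈ U, ∀ v ∈ U, y w = y v → w = v := fun w _ v _ h => y.injective h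
  have hR'y : ∀ r ∈ R', y r ∈ R' := by
    intro r hr
    have := mul_mem (hyR r (hR'U hr)) hr
    rwa [div_mul_cancel] at this
  -- `y ^ 3` fixes `R'`
  haveI : Finite (MulAut W) := Finite.of_injective (fun e : MulAut W => (e : W → W))
    DFunLike.coe_injective
  have hfix : ∀ r ∈ R', (y ^ 3) r = r := by
    intro r hr
    -- the orbit of `r` has at most three elements
    rcases eq_or_ne r 1 with rfl | hr1
    · exact map_one _
    have horb : ∀ n : ℕ, (y ^ n) r ∈ R' ∧ (y ^ n) r ≠ 1 := by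
      intro n
      induction n with
      | zero => exact ⟨hr, hr1⟩
      | succ n ih =>
        rw [pow_succ', MulAut.mul_apply]
        exact ⟨hR'y _ ih.1, fun h => ih.2 (y.injective (h.trans (map_one y).symm))⟩
    obtain ⟨i, j, hij, he⟩ : ∃ i j : Fin 4, i ≠ j ∧ (y ^ (i : ℕ)) r = (y ^ (j : ℕ)) r := by
      by_contra hcon
      push_neg at hcon
      let g : Fin 4 → {x : R' // x ≠ 1} := fun i => ⟨⟨(y ^ (i : ℕ)) r, (horb i).1⟩,
        fun h => (horb i).2 (congrArg Subtype.val h)⟩
      have hginj : Function.Injective g := by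
        intro i j h
        by_contra hne'
        exact hcon i j hne' (congrArg (fun x => ((x.1 : R') : W)) h)
      have h4 := Nat.card_le_card_of_injective g hginj
      have h5 : Nat.card {x : R' // x ≠ 1} < Nat.card R' :=
        Finite.card_subtype_lt (x := (1 : R')) (by simp)
      rw [Nat.card_fin] at h4
      omega
    wlog hlt : (i : ℕ) < j generalizing i j
    · exact this j i hij.symm he.symm
        (lt_of_le_of_ne (not_lt.1 hlt) (fun h => hij (Fin.ext h).symm))
    -- the period `d` is at most 3 and divides an odd number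
    have hd : (y ^ ((j : ℕ) - i)) r = r := by
      apply (y ^ (i : ℕ)).injective
      rw [← MulAut.mul_apply, ← pow_add, Nat.add_sub_cancel' hlt.le]
      exact he.symm
    have hd3 : (j : ℕ) - i = 1 ∨ (j : ℕ) - i = 2 ∨ (j : ℕ) - i = 3 := by omega
    have key : y r = r → (y ^ 3) r = r := fun h => by
      simp only [pow_succ', pow_zero, mul_one, MulAut.mul_apply, h]
    rcases hd3 with h | h | h <;> rw [h] at hd
    · exact key (by simpa using hd)
    · refine key ?_
      obtain ⟨k, hk⟩ := Nat.coprime_two_right.1 hodd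
      have h2k : ∀ k : ℕ, (y ^ (2 * k)) r = r := by
        intro k
        induction k with
        | zero => simp
        | succ k ih => rw [Nat.mul_succ, pow_add, MulAut.mul_apply, hd, ih]
      have h1 : (y ^ (2 * k + 1)) r = r := by rw [← hk, pow_orderOf_eq_one]; rfl
      rw [pow_succ', MulAut.mul_apply, h2k] at h1
      exact h1
    · exact hd
  refine ⟨fun w hw => ?_, ?_⟩
  · set δ := (y ^ 3) w / w with hδ
    have hδR : δ ∈ R' := by
      have a1 := hyR w hw
      have a2 := hyR (y w) (hyU w hw)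
      have a3 := hyR (y (y w)) (hyU _ (hyU w hw))
      have := mul_mem (mul_mem a3 a2) a1
      rw [div_mul_div_cancel, div_mul_div_cancel] at this
      rw [hδ]
      simpa [pow_succ', MulAut.mul_apply] using this
    have hpow : ∀ n : ℕ, ((y ^ 3) ^ n) w = δ ^ n * w := by
      intro n
      induction n with
      | zero => simp
      | succ n ih =>
        rw [pow_succ', MulAut.mul_apply, ih, map_mul, map_pow, hfix δ hδR, pow_succ δ, mul_assoc, hδ,
          div_mul_cancel]
    obtain ⟨k, hk⟩ := Nat.coprime_two_right.1 hodd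
    have h1 := hpow (orderOf y)
    rw [← pow_mul, mul_comm 3, pow_mul, pow_orderOf_eq_one, one_pow, MulAut.one_apply, hk, pow_succ,
      pow_mul, hW δ, one_pow, one_mul] at h1
    exact div_eq_one.1 (mul_eq_right.1 h1.symm)
  · obtain ⟨w, hw, hne'⟩ := hne
    by_contra hcon
    push_neg at hcon
    apply hne'
    have h2 := hcon (α (η w)) (hαU _ (hηU _ hw))
    rw [hy] at h2
    simp only [MulAut.mul_apply] at h2
    rw [show α⁻¹ (α (η w)) = η w from α.symm_apply_apply _,
      show η⁻¹ (η w) = w from η.symm_apply_apply _] at h2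
    exact h2.symm

end Cfsg.Agent.Lib.ThompsonA
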