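import Mathlib
import Cfsg.Agent.Lib.ThompsonA.Basic
import Cfsg.Agent.Lib.ThompsonA.Pair
import Cfsg.Agent.Lib.ThompsonA.Reduction
import Cfsg.Agent.Lib.ThompsonNPC.Thompson
import Cfsg.Agent.Lib.DStar.Replacement
import Cfsg.Agent.Lib.Involves.Dihedral
import Cfsg.Agent.Lib.Involves.SymFour
/-!
Thompson's normal `p`-complement theorem for the abelian version of the Thompson subgroup.
-/

namespace Cfsg.Agent.Lib.ThompsonA

open Subgroup Cfsg.Agent.Lib.ThompsonNPC
open Cfsg.Agent.Lib

universe u

variable {p : ℕ}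

/-- A `p'`-element centralising the elements of order `p` of an abelian `p`-group it normalises
centralises that group. -/
theorem commute_of_commute_omega {G : Type*} [Group G] {a : G} (ha : (orderOf a).Coprime p)
    {D : Subgroup G} (hD : IsPGroup p D) (hc : ∀ x ∈ D, ∀ y ∈ D, x * y = y * x)
    (hinv : ∀ x ∈ D, a * x * a⁻¹ ∈ D) (hfix : ∀ x ∈ D, x ^ p = 1 → a * x = x * a) :
    ∀ x ∈ D, a * x = x * a := by
  suffices key : ∀ k : ℕ, ∀ x ∈ D, x ^ p ^ k = 1 → a * x = x * a by
    intro x hx
    obtain ⟨k, hk⟩ := hD ⟨x, hx⟩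
    exact key k x hx (congrArg Subtype.val hk)
  intro k
  induction k with
  | zero =>
    intro x _ h1
    rw [pow_zero, pow_one] at h1
    rw [h1, mul_one, one_mul]
  | succ k ih =>
    intro x hx hxk
    have hxp : a * x ^ p = x ^ p * a := ih _ (D.pow_mem hx p) (by rw [← pow_mul, ← pow_succ', hxk])
    set z := x⁻¹ * (a * x * a⁻¹) with hz
    have hzD : z ∈ D := mul_mem (inv_mem hx) (hinv x hx)
    have hzp : z ^ p = 1 := by
      rw [hz, (show Commute x⁻¹ (a * x * a⁻¹) from hc _ (inv_mem hx) _ (hinv x hx)).mul_pow,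
        conj_pow, hxp, mul_inv_cancel_right, inv_pow, inv_mul_cancel]
    have hza : a * z * a⁻¹ = z := by rw [hfix z hzD hzp, mul_inv_cancel_right]
    have hn : ∀ n : ℕ, a ^ n * x * (a ^ n)⁻¹ = x * z ^ n := by
      intro n
      induction n with
      | zero => simp
      | succ n ihn =>
        calc a ^ (n + 1) * x * (a ^ (n + 1))⁻¹ = a * (a ^ n * x * (a ^ n)⁻¹) * a⁻¹ := by
              rw [pow_succ']; group
          _ = a * x * a⁻¹ * (a * z ^ n * a⁻¹) := by rw [ihn]; group
          _ = x * z * z ^ n := by rw [← conj_pow, hza, hz]; group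
          _ = x * z ^ (n + 1) := by rw [pow_succ', mul_assoc]
    have h1 := hn (orderOf a)
    rw [pow_orderOf_eq_one, one_mul, inv_one, mul_one, left_eq_mul] at h1
    have hz1 : z = 1 := by
      have := pow_gcd_eq_one.2 ⟨h1, hzp⟩
      rwa [ha.gcd_eq_one, pow_one] at this
    rw [hz, inv_mul_eq_one] at hz1
    exact mul_inv_eq_iff_eq_mul.1 hz1.symm

theorem isMulCommutative_of_le {G : Type*} [Group G] {A B : Subgroup G} (hA : IsMulCommutative A)
    (h : B ≤ A) : IsMulCommutative B :=
  ⟨⟨fun x y => Subtype.ext (DStar.commute_of_isMulCommutative hA (h x.2) (h y.2))⟩⟩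

theorem isMulCommutative_sup {G : Type*} [Group G] {A B : Subgroup G} (hA : IsMulCommutative A)
    (hB : IsMulCommutative B) (h : ∀ a ∈ A, ∀ b ∈ B, a * b = b * a) :
    IsMulCommutative (A ⊔ B : Subgroup G) := by
  rw [show A ⊔ B = closure ((A : Set G) ∪ (B : Set G)) by
    rw [Subgroup.closure_union, Subgroup.closure_eq, Subgroup.closure_eq]]
  refine isMulCommutative_closure ?_
  intro u hu v hv
  rcases hu with hu | hu <;> rcases hv with hv | hv
  · exact DStar.commute_of_isMulCommutative hA hu hv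
  · exact h u hu v hv
  · exact (h v hv u hu).symm
  · exact DStar.commute_of_isMulCommutative hB hu hv

/-- A quadratic automorphism of a group of exponent `p` has order dividing `p`. -/
theorem pow_eq_one_of_quadratic {W : Type*} [CommGroup W] (hW : ∀ w : W, w ^ p = 1) {α : MulAut W}
    (hq : ∀ w, α (α w / w) = α w / w) : α ^ p = 1 := by
  refine MulEquiv.ext fun w => ?_
  have key : ∀ n : ℕ, (α ^ n) w = (α w / w) ^ n * w := by
    intro n
    induction n with
    | zero => simp
    | succ n ih =>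
      rw [pow_succ', MulAut.mul_apply, ih, map_mul, map_pow, hq, pow_succ (α w / w), mul_assoc,
        div_mul_cancel]
  rw [key, hW, one_mul]
  rfl

/-- Thompson replacement: an abelian subgroup of largest order with maximal intersection with a
normal abelian subgroup is normalised by it. -/
theorem le_normalizer_of_maximal_inf [Fact p.Prime] {G : Type*} [Group G] [Finite G] {P : Sylow p G}
    {A W : Subgroup G} (hA : A ∈ maxAbIn (P : Subgroup G)) (hWn : W.Normal)
    (hWP : W ≤ (P : Subgroup G)) (hW : Cfsg.IsElementaryAbelian p W)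
    (hcent : ∀ B ∈ maxAbIn (P : Subgroup G),
      Nat.card (A ⊓ W : Subgroup G) < Nat.card (B ⊓ W : Subgroup G) →
      ∀ w ∈ W, ∀ b ∈ B, w * b = b * w) :
    W ≤ normalizer (A : Set G) := by
  by_contra hnot
  set i := (P : Subgroup G).subtype
  have hAeq : (A.subgroupOf (P : Subgroup G)).map i = A := map_subgroupOf_eq_of_le hA.2.1
  have hWeq : (W.subgroupOf (P : Subgroup G)).map i = W := map_subgroupOf_eq_of_le hWP
  have hi : Function.Injective i := subtype_injective _
  haveI := hA.1
  haveI := hW.1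
  haveI := hWn
  have hsub : ∀ X : Subgroup G, IsMulCommutative X → IsMulCommutative (X.subgroupOf (P : Subgroup G)) :=
    fun X hX => ⟨⟨fun x y => Subtype.ext (Subtype.ext
      (DStar.commute_of_isMulCommutative hX (mem_subgroupOf.1 x.2) (mem_subgroupOf.1 y.2)))⟩⟩
  obtain ⟨B, hB, hBcard, hlt, hBN, -, -⟩ := DStar.exists_replacement P.2
    (A.subgroupOf (P : Subgroup G)) (W.subgroupOf (P : Subgroup G)) (hsub A hA.1)
    (fun B hB => by
      haveI := hB
      have := hA.2.2 (B.map i) inferInstance (map_subtype_le B)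
      rwa [← hAeq, card_map_of_injective hi, card_map_of_injective hi] at this)
    (hsub W hW.1)
    (by rw [normalizer_eq_top_iff.2 (show (W.subgroupOf (P : Subgroup G)).Normal from hWn.comap i)]; exact le_top)
    (fun h => hnot fun w hw => mem_normalizer_fintype fun a ha => by
      have := (mem_normalizer_iff.1 (h (x := ⟨w, hWP hw⟩) hw) ⟨a, hA.2.1 ha⟩).1 ha
      exact this)
  haveI := hB
  have hB1 : B.map i ∈ maxAbIn (P : Subgroup G) := by
    refine ⟨inferInstance, map_subtype_le B, fun C hC hCP => ?_⟩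
    rw [card_map_of_injective hi, hBcard]
    have := hA.2.2 C hC hCP
    rwa [← hAeq, card_map_of_injective hi] at this
  have hlt' : Nat.card (A ⊓ W : Subgroup G) < Nat.card (B.map i ⊓ W : Subgroup G) := by
    conv_lhs => rw [← hAeq, ← hWeq, ← map_inf _ _ i hi, card_map_of_injective hi]
    conv_rhs => rw [← hWeq, ← map_inf _ _ i hi, card_map_of_injective hi]
    exact Set.ncard_lt_ncard hlt (Set.toFinite _)
  have hcomm := hcent _ hB1 hlt'
  have hle := hB1.2.2 _ (isMulCommutative_sup hW.1 hB1.1 hcomm) (sup_le hWP hB1.2.1)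
  have hWB : W ≤ B.map i := le_sup_left.trans (eq_of_le_of_card_ge le_sup_right hle).ge
  apply hnot
  intro w hw
  obtain ⟨b, hb, rfl⟩ := hWB hw
  exact mem_normalizer_fintype fun a ha =>
    (mem_normalizer_iff.1 (hBN hb) ⟨a, hA.2.1 ha⟩).1 ha

/-- A small pair in characteristic 2 gives a section `S₄`. -/
theorem involves_of_pair {G : Type*} [Group G] [Finite G] {W : Subgroup G}
    (hWel : Cfsg.IsElementaryAbelian 2 W) 
    (φ : G →* MulAut W) (hφ : ∀ (g : G) (x : W), ((φ g x : W) : G) = g * x * g⁻¹)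
    {H : Subgroup (MulAut W)} [IsMulCommutative H] (hcop : (Nat.card H).Coprime 2)
    (hW : ∀ w : W, w ^ 2 = 1) {α η : MulAut W} (hα : α ^ 2 = 1) (hη : η ∈ H)
    (hαη : α * η * α⁻¹ ∈ H) {U R : Subgroup W} (hαU : ∀ w ∈ U, α w ∈ U) (hηU : ∀ w ∈ U, η w ∈ U)
    (hR : ∀ w ∈ U, α w / w ∈ R) (hRU : R ≤ U) (hRc : Nat.card R < 2 ^ 2)
    (hne : ∃ w ∈ U, α (η w) ≠ η (α w)) (hαr : α ∈ φ.range) (hηr : η ∈ φ.range) :
    Cfsg.Involves (Equiv.Perm (Fin 4)) G := by
  let _ : CommGroup W := { (inferInstance : Group W) with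
    mul_comm := fun a b => Subtype.ext (ElemAbelian.comm hWel a.2 b.2) }
  obtain ⟨y, hy, hinv, hyU, hy3, v₀, hv₀, hyv⟩ :=
    pair_two hcop hW hα hη hαη hαU hηU hR hRU hRc hne
  obtain ⟨a₀, rfl⟩ := hαr
  obtain ⟨k, rfl⟩ := hηr
  set g := k * a₀ * k⁻¹ * a₀⁻¹ with hg
  have hyg : y = φ g := by rw [hy, hg, map_mul, map_mul, map_mul, map_inv, map_inv]
  subst hyg
  set U' : Subgroup G := U.map W.subtype with hU'
  have hU'W : U' ≤ W := map_subtype_le U
  have hU'el : Cfsg.IsElementaryAbelian 2 U' := ElemAbelian.mono hWel hU'W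
  have hnorm : ∀ x : G, (∀ w ∈ U, φ x w ∈ U) → x ∈ normalizer (U' : Set G) := fun x hx =>
    mem_normalizer_fintype fun u hu => by
      obtain ⟨w, hw, rfl⟩ := hu
      exact ⟨φ x w, hx w hw, hφ x w⟩
  set f := MulAut.conjNormal (H := U'.subgroupOf (normalizer (U' : Set G))) with hf
  have hfapp : ∀ (x : normalizer (U' : Set G)) u, (((f x u : U'.subgroupOf (normalizer (U' : Set G)))
      : normalizer (U' : Set G)) : G) = x * ((u : normalizer (U' : Set G)) : G) * (x : G)⁻¹ :=
    fun x u => rfl
  have hf1 : ∀ x : normalizer (U' : Set G), f x = 1 ↔ (x : G) ∈ centralizer (U' : Set G) := by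
    intro x
    constructor
    · intro h
      rw [mem_centralizer_iff]
      intro u hu
      have h' := hfapp x ⟨⟨u, le_normalizer hu⟩, hu⟩
      rw [h] at h'
      exact (eq_mul_inv_iff_mul_eq.1 h')
    · intro h
      refine MulEquiv.ext fun u => Subtype.ext (Subtype.ext ?_)
      rw [hfapp]
      have h' : ((u : normalizer (U' : Set G)) : G) * (x : G) = (x : G) * ((u : normalizer (U' : Set G)) : G) :=
        mem_centralizer_iff.1 h _ u.2
      rw [← h', mul_inv_cancel_right]
      rfl
  set a : normalizer (U' : Set G) := ⟨g, hnorm g hyU⟩ with ha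
  set b : normalizer (U' : Set G) := ⟨a₀, hnorm a₀ hαU⟩ with hb
  have hord : orderOf (f a) = 3 := by
    haveI : Fact (Nat.Prime 3) := ⟨Nat.prime_three⟩
    refine orderOf_eq_prime ?_ fun h => hyv (Subtype.ext ?_)
    · rw [← map_pow, hf1, mem_centralizer_iff]
      rintro _ ⟨w, hw, rfl⟩
      have := congrArg Subtype.val (hy3 w hw)
      rw [← map_pow, hφ] at this
      exact (mul_inv_eq_iff_eq_mul.1 this).symm
    · have h' : (v₀ : G) * g = g * (v₀ : G) :=
        mem_centralizer_iff.1 ((hf1 a).1 h) _ (mem_map_of_mem W.subtype hv₀)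
      rw [hφ, ← h', mul_inv_cancel_right]
  have hconj : f b * f a * (f b)⁻¹ = (f a)⁻¹ := by
    rw [eq_inv_iff_mul_eq_one, ← map_inv, ← map_mul, ← map_mul, ← map_mul, hf1,
      mem_centralizer_iff]
    rintro _ ⟨w, hw, rfl⟩
    have hc : φ (a₀ * g * a₀⁻¹ * g) = 1 := by
      rw [map_mul, map_mul, map_mul, map_inv, hinv, inv_mul_cancel]
    have := congrArg Subtype.val (DFunLike.congr_fun hc w)
    rw [hφ, MulAut.one_apply] at this
    exact (mul_inv_eq_iff_eq_mul.1 this).symm
  haveI : Fact (Nat.Prime 3) := ⟨Nat.prime_three⟩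
  obtain ⟨x, z, ⟨j, hj⟩, -, hz1, hz2, hxz⟩ :=
    Involves.exists_inverting f (by norm_num : (3 : ℕ) ≠ 2) hord hconj
  refine Involves.involves_s4_of_pair U' hU'el x.2 z.2
    ⟨j, by rw [← SubgroupClass.coe_pow, ← hj, pow_orderOf_eq_one, OneMemClass.coe_one]⟩
    (congrArg Subtype.val hxz) ?_ (fun h => hz1 ((hf1 z).2 h))
  rw [← SubgroupClass.coe_pow]
  refine (hf1 _).1 ?_
  obtain ⟨n, hn⟩ := hz2
  rw [map_pow, ← hn, ← zpow_natCast, ← zpow_mul, mul_comm, zpow_mul, zpow_natCast, ← hord,
    pow_orderOf_eq_one, one_zpow]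

variable [Fact p.Prime]

/-- `N(J(S))` (index `false`) and `C(Z(S))` (index `true`). -/
def locA (_p : ℕ) (b : Bool) {G : Type u} [Group G] (S : Subgroup G) : Subgroup G :=
  bif b then centralizer ((S ⊓ centralizer (S : Set G) : Subgroup G) : Set G)
  else normalizer (Cfsg.thompsonSubgroupAOf S : Set G)

/-- The local family of Thompson's theorem, abelian version. -/
def familyA (p : ℕ) [Fact p.Prime] : LocalFamily.{u} p where
  idx := Bool
  loc := fun b {_} _ S => locA p b S
  mono := by
    intro b G _ M S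
    cases b
    · simp only [locA, cond_false]
      rw [thompsonSubgroupAOf_map M.subtype_injective]
      exact le_normalizer_map _
    · simp only [locA, cond_true]
      have hd : M.subtype.ker ⊓ S = ⊥ := by rw [ker_subtype, bot_inf_eq]
      rw [center_map_of_disjoint M.subtype S hd]
      rintro _ ⟨m, hm, rfl⟩
      rw [mem_centralizer_iff]
      rintro _ ⟨s, hs, rfl⟩
      rw [← map_mul, ← map_mul, mem_centralizer_iff.1 hm s hs]
  localised := by
    intro b G _ _ S hS hS1
    cases b
    · simp only [locA, cond_false]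
      exact ⟨Cfsg.thompsonSubgroupAOf S, thompsonSubgroupAOf_ne_bot hS1, thompsonSubgroupAOf_le S,
        le_rfl, normalizer_le S⟩
    · simp only [locA, cond_true]
      exact ⟨_, center_ne_bot hS hS1, inf_le_left, centralizer_le_normalizer _,
        normalizer_le_normalizer_center S⟩
  quot := by
    intro b G H _ _ _ f hf hker P
    have hd : f.ker ⊓ (P : Subgroup G) = ⊥ := by
      rw [inf_comm]
      exact PSolvable.inf_eq_bot_of_isPGroup_of_coprime P.2
        ((Fact.out : p.Prime).coprime_iff_not_dvd.2 hker).symm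
    cases b
    · simp only [locA, cond_false]
      rw [thompsonSubgroupAOf_map_of_disjoint f _ hd]
      exact normalizer_map_le f hf hker (P.2.to_le (thompsonSubgroupAOf_le _))
    · simp only [locA, cond_true]
      rw [center_map_of_disjoint f _ hd]
      exact centralizer_map_le f hf hker (P.2.to_le inf_le_left)
  top_of_normal := ⟨false, fun P hP => by
    simp only [locA, cond_false]
    exact top_le_iff.1 ((normalizer_eq_top_iff.2 hP).ge.trans (normalizer_le _))⟩

theorem minimal_false (G : Type u) [Group G] [Finite G]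
    (hfree : p ≠ 2 ∨ ¬ Cfsg.Involves (Equiv.Perm (Fin 4)) G)
    (hgood : Good (familyA.{u} p) G) (hG : ¬ Cfsg.HasNormalPComplement p G)
    (m : Minimal p G) : False := by
  classical
  obtain ⟨P, K, hcoatom, hHK, hKn, hsup, hinf, hcomm, hcop, hCH, hHP, hPtop⟩ := m
  have hp : p.Prime := Fact.out
  set H := pCore p G with hH
  have hHle : H ≤ (P : Subgroup G) := PSolvable.pCore_le_sylow P
  have hloc : ∀ b, (locA p b (P : Subgroup G)) = (P : Subgroup G) := by
    intro b
    have hle : (P : Subgroup G) ≤ locA p b (P : Subgroup G) := by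
      cases b
      · exact le_normalizer.trans (normalizer_le _)
      · exact le_centralizer_iff.1 inf_le_right
    rcases eq_or_lt_of_le hle with h | h
    · exact h.symm
    · exfalso
      have := hgood P b
      change Cfsg.HasNormalPComplement p (locA p b (P : Subgroup G)) at this
      rw [hcoatom.2 _ h] at this
      exact hG (hasNormalPComplement_top this)
  have hJ : normalizer (Cfsg.thompsonSubgroupAOf (P : Subgroup G) : Set G) = P := hloc false
  set Z : Subgroup G := (P : Subgroup G) ⊓ centralizer ((P : Subgroup G) : Set G) with hZ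
  have hCZ : centralizer (Z : Set G) = P := hloc true
  have hZC : Z ≤ centralizer (H : Set G) :=
    inf_le_right.trans (centralizer_le (fun x hx => hHle hx))
  have hZH : Z ≤ H := hZC.trans hCH
  set V := normalClosure (Z : Set G) with hV
  have hZV : Z ≤ V := fun z hz => subset_normalClosure hz
  have hVH : V ≤ H := normalClosure_le_normal fun z hz => hZH hz
  have hVc : V ≤ centralizer (H : Set G) := normalClosure_le_normal fun z hz => hZC hz
  have hVcomm : ∀ a ∈ V, ∀ b ∈ V, a * b = b * a := fun a ha b hb =>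
    mem_centralizer_iff.1 (hVc hb) a (hVH ha)
  set W := Cfsg.omegaOne p V with hW
  have hWn : W.Normal := normalizer_eq_top_iff.1 (top_le_iff.1
    ((normalizer_eq_top_iff.2 (normalClosure_normal)).ge.trans (Omega.normalizer_le p V)))
  have hWel := Omega.isElementaryAbelian_of_comm (p := p) hVcomm
  have hWH : W ≤ H := (Omega.le_self p V).trans hVH
  let _ : CommGroup W := { (inferInstance : Group W) with
    mul_comm := fun a b => Subtype.ext (ElemAbelian.comm hWel a.2 b.2) }
  have hWe : ∀ w : W, w ^ p = 1 := fun w => Subtype.ext (hWel.2 w w.2)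
  let φ : G →* MulAut W := MulAut.conjNormal
  have hφmem : ∀ g, g ∈ φ.ker ↔ ∀ w ∈ W, g * w = w * g := by
    intro g
    rw [MonoidHom.mem_ker]
    constructor
    · intro h w hw
      have := congrArg Subtype.val (DFunLike.congr_fun h ⟨w, hw⟩)
      rw [MulAut.conjNormal_apply] at this
      exact mul_inv_eq_iff_eq_mul.1 this
    · intro h
      refine MulEquiv.ext fun w => Subtype.ext ?_
      rw [MulAut.conjNormal_apply, MulAut.one_apply]
      exact mul_inv_eq_iff_eq_mul.2 (h w w.2)
  have hHker : H ≤ φ.ker := fun h hh => (hφmem h).2 fun w hw =>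
    mem_centralizer_iff.1 (hVc (Omega.le_self p V hw)) h hh
  -- the kernel is the core
  have hker : φ.ker = H := by
    refine le_antisymm ?_ hHker
    set N := φ.ker with hN
    set X := N ⊓ K with hX
    have hXn : X.Normal := inferInstance
    have hXH : X ≤ H := by
      rcases eq_or_lt_of_le (le_sup_right : (P : Subgroup G) ≤ X ⊔ P) with h | h
      · exact hinf ▸ le_inf inf_le_right (le_sup_left.trans h.ge)
      · exfalso
        have htop := hcoatom.2 _ h
        have hKX : K ≤ X := by
          intro k hk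
          have hk' : k ∈ X ⊔ (P : Subgroup G) := by rw [htop]; exact mem_top k
          obtain ⟨x, hx, y, hy, rfl⟩ := mem_sup_of_normal_left.1 hk'
          have hy' : y ∈ K ⊓ (P : Subgroup G) := mem_inf.2 ⟨(mul_mem_cancel_left (mem_inf.1 hx).2).1 hk, hy⟩
          rw [hinf] at hy'
          exact mul_mem hx ⟨hHker hy', hHK hy'⟩
        have hKp : IsPGroup p K := by
          intro k
          obtain ⟨j, hj⟩ := Transfer.exists_pow_coprime (p := p) (k : G)
          refine ⟨j, Subtype.ext ?_⟩
          set g := (k : G) ^ p ^ j with hg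
          have hgN : g ∈ N := (hKX (pow_mem k.2 _)).1
          have hVp : IsPGroup p V := PSolvable.pCore_isPGroup.to_le hVH
          have hcent : g ∈ centralizer (Z : Set G) := by
            rw [mem_centralizer_iff]
            intro z hz
            refine (commute_of_commute_omega hj hVp hVcomm ?_ ?_ z (hZV hz)).symm
            · exact fun x hx => normalClosure_normal.conj_mem x hx g
            · exact fun x hx hxp => (hφmem g).1 hgN x (Omega.mem_of_pow_eq_one hx hxp)
          rw [hCZ] at hcent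
          have := Transfer.eq_one_of_isPGroup_coprime P.2 (x := ⟨g, hcent⟩)
            (by rwa [← orderOf_coe])
          rw [SubgroupClass.coe_pow]
          exact congrArg Subtype.val this
        apply hPtop
        rw [← hsup, sup_eq_right.2 ((PSolvable.le_pCore (hN := hKn) hKp).trans hHle)]
    refine PSolvable.le_pCore (hN := inferInstance) fun g => ?_
    obtain ⟨k, hk, y, hy, hky⟩ := mem_sup_of_normal_left.1
      (show (g : G) ∈ K ⊔ (P : Subgroup G) by rw [hsup]; exact mem_top _)
    obtain ⟨a, ha⟩ := P.2 ⟨y, hy⟩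
    have hgK : (g : G) ^ p ^ a ∈ K := by
      rw [← QuotientGroup.eq_one_iff, QuotientGroup.mk_pow, ← hky, QuotientGroup.mk_mul,
        (QuotientGroup.eq_one_iff k).2 hk, one_mul, ← QuotientGroup.mk_pow,
        show y ^ p ^ a = 1 from congrArg Subtype.val ha]
      rfl
    obtain ⟨b, hb⟩ := PSolvable.pCore_isPGroup (p := p)
      ⟨(g : G) ^ p ^ a, hXH ⟨pow_mem g.2 _, hgK⟩⟩
    refine ⟨a + b, Subtype.ext ?_⟩
    rw [SubgroupClass.coe_pow, pow_add, pow_mul]
    exact congrArg Subtype.val hb
  -- an elementary abelian subgroup of largest order outside the core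
  obtain ⟨A₀, hA₀, hA₀H⟩ : ∃ A ∈ maxAbIn (P : Subgroup G), ¬ A ≤ H := by
    by_contra h
    push_neg at h
    have hle : Cfsg.thompsonSubgroupAOf (P : Subgroup G) ≤ H := by
      rw [thompsonSubgroupAOf_eq_sSup]
      exact sSup_le h
    have hn := normalizer_le H
    rw [thompsonSubgroupAOf_eq_of_le hle hHle, hJ,
      normalizer_eq_top_iff.2 (inferInstance : H.Normal)] at hn
    exact hPtop (top_le_iff.1 hn)
  obtain ⟨A, ⟨hA, hAH⟩, hAmax⟩ := Set.exists_max_image
    {A : Subgroup G | A ∈ maxAbIn (P : Subgroup G) ∧ ¬ A ≤ H}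
    (fun A => Nat.card (A ⊓ W : Subgroup G)) (Set.toFinite _) ⟨A₀, hA₀, hA₀H⟩
  have hAP : A ≤ (P : Subgroup G) := hA.2.1
  have hAc : ∀ a ∈ A, ∀ b ∈ A, a * b = b * a := fun a ha b hb =>
    DStar.commute_of_isMulCommutative hA.1 ha hb
  have hnW := le_normalizer_of_maximal_inf hA hWn (hWH.trans hHle) hWel
    (fun B hB hlt => by
      have hBH : B ≤ H := by
        by_contra hBH
        exact (hAmax B ⟨hB, hBH⟩).not_gt hlt
      exact fun w hw b hb => (mem_centralizer_iff.1 (hVc (Omega.le_self p V hw)) b (hBH hb)).symm)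
  -- `A` acts quadratically
  have hquad : ∀ a ∈ A, ∀ b ∈ A, ∀ w : W, φ b (φ a w / w) = φ a w / w := by
    intro a ha b hb w
    have hmem : ((φ a w / w : W) : G) ∈ A := by
      rw [div_eq_mul_inv, Subgroup.coe_mul, Subgroup.coe_inv, MulAut.conjNormal_apply]
      rw [show a * (w : G) * a⁻¹ * (w : G)⁻¹ = a * ((w : G) * a⁻¹ * (w : G)⁻¹) by group]
      exact mul_mem ha ((mem_normalizer_iff.1 (hnW w.2) _).1 (inv_mem ha))
    refine Subtype.ext ?_
    rw [MulAut.conjNormal_apply, hAc b hb _ hmem, mul_inv_cancel_right]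
  set Hi := K.map φ with hHi
  have hHic : IsMulCommutative Hi := by
    refine ⟨⟨?_⟩⟩
    rintro ⟨_, x, hx, rfl⟩ ⟨_, y, hy, rfl⟩
    have := hHker (hcomm x hx y hy)
    rw [MonoidHom.mem_ker, map_mul, map_mul, map_mul, map_inv, map_inv, mul_inv_eq_one,
      mul_inv_eq_iff_eq_mul] at this
    exact Subtype.ext this
  have hHicop : (Nat.card Hi).Coprime p := by
    have e : Nat.card Hi = H.relIndex K := by
      conv_rhs => rw [← hker, relIndex_ker]
    rw [e]
    exact (hp.coprime_iff_not_dvd.2 hcop).symm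
  set Ai := A.map φ with hAi
  haveI := hA.1
  have hAiel : Cfsg.IsElementaryAbelian p Ai := by
    refine ⟨inferInstance, ?_⟩
    rintro _ ⟨a, ha, rfl⟩
    exact pow_eq_one_of_quadratic hWe fun w => hquad a ha a ha w
  have hAin : Ai ≤ normalizer (Hi : Set (MulAut W)) := by
    refine (map_mono (f := φ) ?_).trans (le_normalizer_map φ)
    rw [normalizer_eq_top_iff.2 hKn]; exact le_top
  have hfaith : Ai ⊓ centralizer (Hi : Set (MulAut W)) = ⊥ := by
    set N0 := (centralizer (Hi : Set (MulAut W))).comap φ with hN0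
    set D := N0 ⊓ (P : Subgroup G) with hD
    have hKN0 : K ≤ N0 := fun k hk => mem_centralizer_iff.2 fun x hx =>
      congrArg Subtype.val (mul_comm' (⟨x, hx⟩ : Hi) ⟨φ k, mem_map_of_mem φ hk⟩)
    have hHD : H ≤ D := le_inf (hHK.trans hKN0) hHle
    have hDn : D.Normal := by
      refine normalizer_eq_top_iff.1 (top_le_iff.1 (hsup.ge.trans (sup_le ?_ ?_)))
      · have key : ∀ k ∈ K, ∀ d ∈ D, k * d * k⁻¹ ∈ D := by
          intro k hk d hd
          have : k * d * k⁻¹ * d⁻¹ ∈ φ.ker := by
            rw [MonoidHom.mem_ker, map_mul, map_mul, map_mul, map_inv, map_inv,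
              mem_centralizer_iff.1 hd.1 _ (mem_map_of_mem φ hk)]
            group
          rw [hker] at this
          have := mul_mem (hHD this) hd
          rwa [inv_mul_cancel_right] at this
        intro k hk
        rw [mem_normalizer_iff]
        intro d
        refine ⟨key k hk d, fun hd => ?_⟩
        have := key k⁻¹ (inv_mem hk) _ hd
        rwa [inv_inv, show k⁻¹ * (k * d * k⁻¹) * k = d by group] at this
      · have hN0n : (P : Subgroup G) ≤ normalizer (N0 : Set G) := by
          intro y _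
          rw [hN0]
          refine (le_normalizer_comap φ) (mem_comap.2 ?_)
          have hy : φ y ∈ normalizer (Hi : Set (MulAut W)) :=
            le_normalizer_map φ (mem_map_of_mem φ (by rw [normalizer_eq_top_iff.2 hKn]; trivial))
          exact normalizer_le_normalizer_centralizer Hi hy
        exact (le_inf hN0n le_normalizer).trans inf_normalizer_le_normalizer_inf
    rw [_root_.eq_bot_iff]
    rintro _ ⟨⟨a, ha, rfl⟩, hc⟩
    have haD : a ∈ D := ⟨hc, hAP ha⟩
    have haH : a ∈ H := PSolvable.le_pCore (hN := hDn) (P.2.to_le inf_le_right) haD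
    rw [← hker] at haH
    exact mem_bot.2 haH
  -- `A` is an offender
  set CA := A ⊓ φ.ker with hCA
  have hE : IsMulCommutative (W ⊔ CA : Subgroup G) := by
    refine isMulCommutative_sup hWel.1 (isMulCommutative_of_le hA.1 inf_le_left) fun a ha c hc => ?_
    exact ((hφmem c).1 hc.2 a ha).symm
  have hEle : Nat.card (W ⊔ CA : Subgroup G) ≤ Nat.card A :=
    hA.2.2 _ hE (sup_le (hWH.trans hHle) (inf_le_left.trans hAP))
  have h1 := Quadratic.card_mul_card_le W CA
  have h2 : Nat.card Ai * Nat.card CA = Nat.card A := by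
    have e1 := (φ.domRestrict A).ker.card_mul_index
    rw [index_ker, MonoidHom.domRestrict_range] at e1
    have e2 : Nat.card (φ.domRestrict A).ker = Nat.card CA := by
      rw [MonoidHom.ker_domRestrict]
      refine Nat.card_congr ⟨fun x => ⟨x.1, x.1.2, x.2⟩, fun y => ⟨⟨y.1, y.2.1⟩, y.2.2⟩,
        fun _ => rfl, fun _ => rfl⟩
    rw [e2, Nat.mul_comm] at e1
    exact e1
  have h3 : Nat.card (W ⊓ CA : Subgroup G) ≤ Nat.card (fix Ai) := by
    refine Nat.card_le_card_of_injective (fun w => ⟨⟨w.1, w.2.1⟩, ?_⟩) ?_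
    · rintro _ ⟨a, ha, rfl⟩
      refine Subtype.ext ?_
      rw [MulAut.conjNormal_apply]
      exact mul_inv_eq_iff_eq_mul.2 (hAc a ha _ w.2.2.1)
    · intro x y hxy
      exact Subtype.ext (congrArg (fun z : fix Ai => ((z : W) : G)) hxy)
  have h4 : Nat.card W * Nat.card CA ≤ Nat.card Ai * Nat.card CA * Nat.card (fix Ai) := by
    rw [h2]
    exact h1.trans (Nat.mul_le_mul hEle h3)
  have hpos : 0 < Nat.card CA := Nat.card_pos
  have hWb : Nat.card W ≤ Nat.card Ai * Nat.card (fix Ai) :=
    Nat.le_of_mul_le_mul_right (by rw [Nat.mul_right_comm] at h4; exact h4) hpos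
  have hfpos : 0 < Nat.card (fix Ai) := Nat.card_pos
  have hAi1 : 1 < Nat.card Ai := by
    rw [Finite.one_lt_card_iff_nontrivial, nontrivial_iff_ne_bot, hAi, Ne,
      Subgroup.map_eq_bot_iff, hker]
    exact hAH
  -- so there is a small pair
  obtain ⟨U, R, α, hα, η, hη, hαU, hηU, hR, hRU, hRc, w₀, hw₀, hne⟩ :
      ∃ (U R : Subgroup W), ∃ α ∈ Ai, ∃ η ∈ Hi, (∀ w ∈ U, α w ∈ U) ∧ (∀ w ∈ U, η w ∈ U) ∧
        (∀ w ∈ U, α w / w ∈ R) ∧ R ≤ U ∧ Nat.card R < p ^ 2 ∧
        ∃ w ∈ U, α (η w) ≠ η (α w) := by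
    by_contra hcon
    push_neg at hcon
    have hmain := card_fix_mul_card_sq_le hWe Hi hHicop Ai hAiel hAin hfaith
      (fun U R α hα η hη a b c d e => hcon U R α hα η hη a b c d e)
    nlinarith
  have hαη : ∀ β ∈ Ai, β * η * β⁻¹ ∈ Hi := fun β hβ => (mem_normalizer_iff.1 (hAin hβ) η).1 hη
  rcases eq_or_ne p 2 with rfl | hp2
  · exact hfree.resolve_left (not_not_intro rfl) (involves_of_pair hWel φ
      (fun g x => rfl) hHicop hWe
      (hAiel.2 α hα) hη (hαη α hα) hαU hηU hR hRU hRc ⟨w₀, hw₀, hne⟩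
      (map_le_range φ A hα) (map_le_range φ K hη))
  · apply hne
    have hcm : ∀ x ∈ Hi, Commute x η := fun x hx =>
      congrArg Subtype.val (mul_comm' (⟨x, hx⟩ : Hi) ⟨η, hη⟩)
    have h' : Commute α η := by
      refine quadratic_commute_mulAut hp2 hWe ?_ ?_ (hcm _ (hαη α hα)) (hcm _ ?_)
      · obtain ⟨a, ha, rfl⟩ := hα
        exact fun w => hquad a ha a ha w
      · exact hHicop.coprime_dvd_left (Subgroup.orderOf_dvd_natCard _ hη)
      · have := hαη α⁻¹ (inv_mem hα)
        rwa [inv_inv] at this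
    exact DFunLike.congr_fun h'.eq w₀

/-- **Thompson's normal `p`-complement theorem**, abelian version. -/
theorem hasNormalPComplement_of_thompsonA {G : Type u} [Group G] [Finite G]
    (hfree : p ≠ 2 ∨ ¬ Cfsg.Involves (Equiv.Perm (Fin 4)) G)
    (P : Sylow p G)
    (hJ : Cfsg.HasNormalPComplement p
      (normalizer (Cfsg.thompsonSubgroupAOf (P : Subgroup G) : Set G)))
    (hZ : Cfsg.HasNormalPComplement p
      (centralizer (((P : Subgroup G) ⊓ centralizer (P : Set G) : Subgroup G) : Set G))) :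
    Cfsg.HasNormalPComplement p G := by
  refine hasNormalPComplement_of_good_hereditary (familyA p)
    (fun G _ => p ≠ 2 ∨ ¬ Cfsg.Involves (Equiv.Perm (Fin 4)) G)
    (fun i hi h => h.imp_right fun h' h'' => h' (Involves.of_injective i hi h''))
    (fun f hf h => h.imp_right fun h' h'' => h' (Involves.of_quotient f hf h''))
    (fun G _ _ => minimal_false G) G hfree (good_of_one _ P ?_)
  intro b
  cases b
  · exact hJ
  · exact hZ

end Cfsg.Agent.Lib.ThompsonA
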